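import Cfsg.Agent.Omega.TwoF.CoRank.Claim
import Cfsg.Agent.Omega.TwoF.Defs
import Cfsg.Agent.Mrg.Omega.TwoF.Bridge
import Cfsg.Agent.MonsterU.CoFrameF
import Cfsg.Agent.ConwayFacts.AutCo1
import Cfsg.Agent.J4Type.FusionM22
import Cfsg.Agent.S0399


/-!
# Row Co1 of TABLE 2F: `m_2(Aut Co1) ≤ 11` (helper897)

* `card_le` : an elementary abelian 2-subgroup of `Co1` has order at most `2 ^ 11`;
* `rk` : `RK Co1 11`.
-/

set_option autoImplicit false

namespace Cfsg.Agent.Omega.TwoF.CoRank.Main

open Cfsg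
open Cfsg.Agent.SporadicA.Co0Mono hiding smul_add smul_sub smul_neg smul_zero
open Cfsg.Agent.SporadicA.Co1Simple
open Cfsg.Agent.MonsterU.CoFrameF
open Cfsg.Agent.CoOneType.CoOneE (pr E mem_E)
open Cfsg.Agent.SporadicA.GolayBase
open Cfsg.Spor (Co1)
open Cfsg.Agent.Omega.TwoF

/-- a 2-subgroup is conjugate into a subgroup of odd index -/
theorem exists_conj_le {G : Type*} [Group G] [Finite G] {A H : Subgroup G} (hA : IsPGroup 2 A) (hH : Odd H.index) :
    ∃ g : G, ∀ a ∈ A, g⁻¹ * a * g ∈ H := by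
  have : Fact (Nat.Prime 2) := ⟨Nat.prime_two⟩
  have : Finite (G ⧸ H) := Quotient.finite _
  obtain ⟨x, hx⟩ := hA.nonempty_fixed_point_of_prime_not_dvd_card (α := G ⧸ H) (by
    have : Nat.card (G ⧸ H) = H.index := rfl
    rw [this, ← even_iff_two_dvd, Nat.not_even_iff_odd]; exact hH)
  obtain ⟨g, rfl⟩ := QuotientGroup.mk_surjective x
  refine ⟨g, fun a ha => ?_⟩
  have h1 : ((a * g : G) : G ⧸ H) = (g : G ⧸ H) := hx ⟨a, ha⟩
  have h2 := QuotientGroup.eq.1 h1.symm
  rwa [← mul_assoc] at h2

instance finite_Co1 : Finite Co1 := Nat.finite_of_card_ne_zero (by rw [card_Co1]; norm_num)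

theorem weight {c : golayCode} (hc : c ≠ 0) : 8 ≤ (Finset.univ.filter fun i => (c : GolayPt → ZMod 2) i ≠ 0).card := by
  have h1 : (Finset.univ.filter fun i => (c : GolayPt → ZMod 2) i ≠ 0) ∈ supports (golayCode : Set (GolayPt → ZMod 2)) := by
    refine ⟨c, c.2, ?_⟩
    rfl
  have h0 : (Finset.univ.filter fun i => (c : GolayPt → ZMod 2) i ≠ 0).card ≠ 0 := by
    intro h
    apply hc
    apply Subtype.ext
    funext i
    by_contra h2
    rw [Finset.card_eq_zero] at h
    have h3 : i ∈ (Finset.univ.filter fun i => (c : GolayPt → ZMod 2) i ≠ 0) := by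
      rw [Finset.mem_filter]; exact ⟨Finset.mem_univ _, h2⟩
    rw [h] at h3
    exact absurd h3 (Finset.notMem_empty _)
  rcases card_of_mem_supports h1 with h | h | h | h | h <;> omega

/-- the bound for subgroups of the frame group -/
theorem card_le_of_le {A : Subgroup Co1} (hA : ∀ a ∈ A, a * a = 1) (hAF : A ≤ F) : Nat.card A ≤ 2 ^ 11 := by
  classical
  have hcomm : ∀ a ∈ A, ∀ b ∈ A, a * b = b * a := by
    intro a ha b hb
    have h1 : ∀ x ∈ A, x⁻¹ = x := fun x hx => inv_eq_of_mul_eq_one_left (hA x hx)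
    rw [← h1 _ (A.mul_mem ha hb), mul_inv_rev, h1 a ha, h1 b hb]
  -- the permutation part
  let f : A →* M24 := toM24.comp (Subgroup.inclusion hAF)
  let B : Subgroup M24 := f.range
  -- the sign part
  let D : AddSubgroup (GolayPt → ZMod 2) :=
    { carrier := {c | ∃ d : golayCode, (d : GolayPt → ZMod 2) = c ∧ pr (signCo0 d) ∈ A}
      zero_mem' := ⟨0, rfl, by rw [signCo0_zero, map_one]; exact A.one_mem⟩
      add_mem' := by
        rintro _ _ ⟨c, rfl, hc⟩ ⟨d, rfl, hd⟩
        exact ⟨c + d, rfl, by rw [signCo0_add, map_mul]; exact A.mul_mem hc hd⟩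
      neg_mem' := by
        rintro _ ⟨c, rfl, hc⟩
        refine ⟨c, ?_, hc⟩
        funext i
        show (c : GolayPt → ZMod 2) i = -(c : GolayPt → ZMod 2) i
        exact (ZMod.neg_eq_self_mod_two _).symm }
  have h12 : Nat.card D ≤ 2 ^ 12 := by
    have h1 : Nat.card D ≤ Nat.card golayCode := by
      refine Nat.card_le_card_of_injective (fun c : D => (⟨c.1, by obtain ⟨d, hd, _⟩ := c.2; rw [← hd]; exact d.2⟩ : golayCode)) ?_
      intro c d h
      exact Subtype.ext (congrArg (fun x : golayCode => (x : GolayPt → ZMod 2)) h)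
    have h2 : Nat.card golayCode = 4096 := by
      have h3 := Cfsg.Agent.S0358.card_golayCode
      exact h3
    omega
  -- the count for the signs
  have hDcard : 2 * Nat.card f.ker ≤ Nat.card D := by
    have hsgn : ∀ a : f.ker, ∃ c : golayCode, ((a : A) : Co1) = pr (signCo0 c) := by
      rintro ⟨a, ha⟩
      exact (mem_E _).1 ((toM24_eq_one_iff ⟨(a : Co1), hAF a.2⟩).1 ha)
    choose w hw using hsgn
    have hone : allOne ≠ 0 := by
      intro h
      have h1 := congrArg (fun c : golayCode => (c : GolayPt → ZMod 2) none) h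
      have h2 : (1 : ZMod 2) = 0 := h1
      exact one_ne_zero h2
    have hpr : ∀ (c : golayCode) (e : Bool), pr (signCo0 (c + bif e then allOne else 0)) = pr (signCo0 c) := by
      intro c e
      cases e
      · rw [cond_false, add_zero]
      · exact Cfsg.Agent.CoOneType.CoOneE.pr_sign_add_allOne c
    have hle := Nat.card_le_card_of_injective
      (fun x : f.ker × Bool => (⟨((w x.1 + bif x.2 then allOne else 0 : golayCode) : GolayPt → ZMod 2),
        _, rfl, by rw [hpr, ← hw]; exact (x.1 : A).2⟩ : D)) (by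
      rintro ⟨a, e⟩ ⟨b, e'⟩ h
      have h1 : w a + (bif e then allOne else 0) = w b + (bif e' then allOne else 0) :=
        Subtype.ext (congrArg (fun x : D => (x : GolayPt → ZMod 2)) h)
      have h2 : a = b := by
        apply Subtype.ext
        apply Subtype.ext
        rw [hw, hw, ← hpr (w a) e, h1, hpr]
      subst h2
      have h3 := add_left_cancel h1
      have h4 : e = e' := by
        cases e <;> cases e'
        · rfl
        · exact absurd h3.symm hone
        · exact absurd h3 hone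
        · rfl
      rw [h4])
    rw [Nat.card_prod, mul_comm] at hle
    have h5 : Nat.card Bool = 2 := by rw [Nat.card_eq_fintype_card]; rfl
    rwa [h5] at hle
  have hAcard : Nat.card A = Nat.card f.ker * Nat.card B := by
    rw [← Subgroup.index_ker, Subgroup.card_mul_index]
  have hBsq : ∀ b : B, b * b = 1 := by
    rintro ⟨_, a, rfl⟩
    apply Subtype.ext
    show f a * f a = 1
    rw [← map_mul]
    have : a * a = 1 := Subtype.ext (hA a a.2)
    rw [this, map_one]
  have key := Claim.card_mul_card_le (Ω := GolayPt) (B := B) (by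
      exact Cfsg.Agent.Leech.Code.card_golayPt) hBsq (by
      intro b hb i hi
      have hb1 : ((b : M24) : Equiv.Perm GolayPt) ≠ 1 := fun h => hb (Subtype.ext (Subtype.ext h))
      have hb2 : ((b : M24) : Equiv.Perm GolayPt) * ((b : M24) : Equiv.Perm GolayPt) = 1 :=
        congrArg (fun x : B => ((x : M24) : Equiv.Perm GolayPt)) (hBsq b)
      exact Cfsg.Agent.J4Type.FusionM22.card_fix (b : M24).2 hb2 hb1 hi) D (by
      rintro _ ⟨d, rfl, _⟩ hne
      exact weight (fun h => hne (by rw [h]; rfl))) (by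
      rintro _ ⟨d, rfl, hd⟩ ⟨_, a, rfl⟩
      obtain ⟨c, σ, hcσ⟩ := exists_of_mem_F (hAF a.2)
      have hσ : f a = σ := toM24_eq hcσ
      have h1 := conj_sign σ d c
      rw [← hcσ, hcomm _ a.2 _ hd, mul_inv_cancel_right] at h1
      have h2 : ∀ i, (((⟨f a, a, rfl⟩ : B) : M24) : Equiv.Perm GolayPt) i = (σ : Equiv.Perm GolayPt) i := fun i => by
        show (f a : Equiv.Perm GolayPt) i = _
        rw [hσ]
      rcases (Cfsg.Agent.CoOneType.CoOneE.pr_sign_eq_iff _ _).1 h1 with h | h
      · left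
        intro i
        show (d : GolayPt → ZMod 2) ((((⟨f a, a, rfl⟩ : B) : M24) : Equiv.Perm GolayPt) i) = _
        rw [h2]
        have h3 := congrArg (fun c : golayCode => (c : GolayPt → ZMod 2) ((σ : Equiv.Perm GolayPt) i)) h
        simp only [wordPerm_apply, Equiv.symm_apply_apply] at h3
        exact h3.symm
      · right
        intro i
        show (d : GolayPt → ZMod 2) ((((⟨f a, a, rfl⟩ : B) : M24) : Equiv.Perm GolayPt) i) = _
        rw [h2]
        have h3 := congrArg (fun c : golayCode => (c : GolayPt → ZMod 2) ((σ : Equiv.Perm GolayPt) i)) h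
        have h4 : (d : GolayPt → ZMod 2) ((σ : Equiv.Perm GolayPt).symm ((σ : Equiv.Perm GolayPt) i)) =
          (d : GolayPt → ZMod 2) ((σ : Equiv.Perm GolayPt) i) + 1 := h3
        rw [Equiv.symm_apply_apply] at h4
        rw [h4, add_assoc, Claim.add_self, add_zero]) h12
  rw [hAcard]
  have h3 : 2 * (Nat.card f.ker * Nat.card B) ≤ 2 ^ 12 := by
    calc 2 * (Nat.card f.ker * Nat.card B) = 2 * Nat.card f.ker * Nat.card B := by ring
      _ ≤ Nat.card D * Nat.card B := Nat.mul_le_mul_right _ hDcard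
      _ ≤ _ := key
  omega

/-- **`m_2(Co1) ≤ 11`** -/
theorem card_le {A : Subgroup Co1} (hA : ∀ a ∈ A, a * a = 1) : Nat.card A ≤ 2 ^ 11 := by
  obtain ⟨g, hg⟩ := exists_conj_le (A := A) (H := F) (fun a => ⟨1, Subtype.ext (by
    show (a : Co1) ^ 2 ^ 1 = 1
    rw [pow_one, pow_two]; exact hA a a.2)⟩) odd_index_F
  have h1 : Nat.card (A.map (MulAut.conj g⁻¹).toMonoidHom) = Nat.card A :=
    (Nat.card_congr (A.equivMapOfInjective _ (MulAut.conj g⁻¹).injective).toEquiv).symm
  rw [← h1]
  refine card_le_of_le ?_ ?_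
  · rintro _ ⟨a, ha, rfl⟩
    rw [← map_mul, hA a ha, map_one]
  · rintro _ ⟨a, ha, rfl⟩
    show g⁻¹ * a * (g⁻¹)⁻¹ ∈ F
    rw [inv_inv]
    exact hg a ha

theorem center_eq : Subgroup.center Co1 = ⊥ := by
  have : IsSimpleGroup Co1 := Cfsg.Agent.S0399.result.1
  refine SimpleTool.center_eq_bot ?_
  rw [card_Co1, show (4157776806543360000 : ℕ) = 2 * 2078888403271680000 by norm_num]
  exact Nat.not_prime_mul (by norm_num) (by norm_num)

/-- **RK**: `m_2(Aut Co1) ≤ 11`. -/
theorem rk : RK Co1 11 := by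
  intro A hA
  have hinj : Function.Injective (MulAut.conj : Co1 →* MulAut Co1) := by
    rw [← MonoidHom.ker_eq_bot_iff, eq_bot_iff, ← center_eq]
    intro x hx
    rw [Subgroup.mem_center_iff]
    intro y
    have h1 := DFunLike.congr_fun (MonoidHom.mem_ker.1 hx) y
    rw [MulAut.conj_apply, MulAut.one_apply, mul_inv_eq_iff_eq_mul] at h1
    exact h1.symm
  have hsurj : (A.comap (MulAut.conj : Co1 →* MulAut Co1)).map (MulAut.conj : Co1 →* MulAut Co1) = A := by
    rw [Subgroup.map_comap_eq, Cfsg.Agent.ConwayFacts.AutCo1.conj_range (MulEquiv.refl Co1), top_inf_eq]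
  rw [← hsurj, ← Nat.card_congr ((A.comap _).equivMapOfInjective _ hinj).toEquiv]
  apply card_le
  intro a ha
  apply hinj
  rw [map_mul, map_one, ← pow_two]
  exact hA _ ha

theorem rk_of_iso {K : Type*} [Group K] (h : Spor.IsoCo1 K) : RK K 11 := by
  obtain ⟨e⟩ := h
  exact rk.equiv e

end Cfsg.Agent.Omega.TwoF.CoRank.Main
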